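import Cfsg.Agent.H178.RG.Defs

/-!
# TEAM RG (S5714): cyclic subspaces with the same annihilator and the same Gram data (helper513)

* `ev x v` : the linear map `g ↦ g(x) v`;
* `gram` : the Gram matrices of the sequences `x ^ i v` determine the form on `F[x] v`;
* `exists_equiv` : the same annihilator: `x ^ i v ↦ x' ^ i v'` is an isomorphism `F[x] v → F[x'] v'`;
* `main` : the combination for an invariant form: an isometry `F[x] v → F[x'] v'`.
-/

set_option autoImplicit false

namespace Cfsg.Agent.H513.RG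

open Cfsg Polynomial Cfsg.Agent.H178.RG

variable {F ι : Type} [Field F] [Fintype ι] [DecidableEq ι]

/-- evaluation -/
noncomputable def ev (x : Matrix ι ι F) (v : ι → F) : F[X] →ₗ[F] (ι → F) where
  toFun g := (aeval x g).mulVec v
  map_add' g h := by rw [map_add, Matrix.add_mulVec]
  map_smul' c g := by rw [map_smul, Matrix.smul_mulVec]; rfl

theorem ev_apply (x : Matrix ι ι F) (v : ι → F) (g : F[X]) : ev x v g = (aeval x g).mulVec v := rfl

theorem ev_X_pow (x : Matrix ι ι F) (v : ι → F) (i : ℕ) : ev x v (X ^ i) = (x ^ i).mulVec v := by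
  rw [ev_apply, map_pow, aeval_X]

theorem mem_ker {x : Matrix ι ι F} {v : ι → F} {f : F[X]} (h : Ann x v f) (g : F[X]) :
    g ∈ LinearMap.ker (ev x v) ↔ f ∣ g := by
  rw [LinearMap.mem_ker, ev_apply]
  exact h g

/-- **the same annihilator** -/
theorem exists_equiv {x x' : Matrix ι ι F} {v v' : ι → F} {f : F[X]} (h : Ann x v f) (h' : Ann x' v' f) :
    ∃ φ : LinearMap.range (ev x v) ≃ₗ[F] LinearMap.range (ev x' v'),
      ∀ g, (φ ⟨ev x v g, LinearMap.mem_range_self _ g⟩ : ι → F) = ev x' v' g := by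
  have hk : LinearMap.ker (ev x v) = LinearMap.ker (ev x' v') := by
    ext g
    rw [mem_ker h, mem_ker h']
  refine ⟨((ev x v).quotKerEquivRange.symm).trans ((Submodule.quotEquivOfEq _ _ hk).trans (ev x' v').quotKerEquivRange),
    fun g => ?_⟩
  have h1 : (ev x v).quotKerEquivRange.symm ⟨ev x v g, LinearMap.mem_range_self _ g⟩ = Submodule.Quotient.mk g := by
    rw [LinearEquiv.symm_apply_eq]
    rfl
  rw [LinearEquiv.trans_apply, h1]
  rfl

/-- the Gram data of the two sequences determine the forms -/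
theorem gram {x x' : Matrix ι ι F} {v v' : ι → F} {B : (ι → F) → (ι → F) → F} {σ : F → F}
    (hal : ∀ u v w, B (u + v) w = B u w + B v w) (hsl : ∀ (a : F) u w, B (a • u) w = a * B u w)
    (har : ∀ u v w, B w (u + v) = B w u + B w v) (hsr : ∀ (a : F) u w, B w (a • u) = σ a * B w u)
    (h : ∀ i j : ℕ, B ((x ^ i).mulVec v) ((x ^ j).mulVec v) = B ((x' ^ i).mulVec v') ((x' ^ j).mulVec v'))
    (g k : F[X]) : B (ev x v g) (ev x v k) = B (ev x' v' g) (ev x' v' k) := by
  have hm : ∀ (y : Matrix ι ι F) (w : ι → F) (i : ℕ) (a : F),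
      ev y w (monomial i a) = a • (y ^ i).mulVec w := by
    intro y w i a
    rw [← smul_X_eq_monomial, map_smul, ev_X_pow]
  induction g using Polynomial.induction_on' with
  | add g₁ g₂ h₁ h₂ => rw [map_add, map_add, hal, hal, h₁, h₂]
  | monomial i a =>
    induction k using Polynomial.induction_on' with
    | add g₁ g₂ h₁ h₂ => rw [map_add, map_add, har, har, h₁, h₂]
    | monomial j b => rw [hm, hm, hm, hm, hsl, hsl, hsr, hsr, h]

/-- **an invariant form**: the Gram data `B (x ^ i v, v)`, `i : ℤ`, and the annihilator determine the cyclic subspace -/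
theorem main {G : Type} [Group G] (ρ : G →* Matrix ι ι F) {B : (ι → F) → (ι → F) → F} {σ : F → F}
    (hal : ∀ u v w, B (u + v) w = B u w + B v w) (hsl : ∀ (a : F) u w, B (a • u) w = a * B u w)
    (har : ∀ u v w, B w (u + v) = B w u + B w v) (hsr : ∀ (a : F) u w, B w (a • u) = σ a * B w u)
    (hρ : ∀ g v w, B ((ρ g).mulVec v) ((ρ g).mulVec w) = B v w) {f : F[X]} {x x' : G} {v v' : ι → F}
    (h : Ann (ρ x) v f) (h' : Ann (ρ x') v' f)
    (hg : ∀ i : ℤ, B ((ρ (x ^ i)).mulVec v) v = B ((ρ (x' ^ i)).mulVec v') v') :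
    ∃ φ : LinearMap.range (ev (ρ x) v) ≃ₗ[F] LinearMap.range (ev (ρ x') v'),
      (∀ g, (φ ⟨ev (ρ x) v g, LinearMap.mem_range_self _ g⟩ : ι → F) = ev (ρ x') v' g) ∧
      ∀ a b : LinearMap.range (ev (ρ x) v), B (φ a : ι → F) (φ b : ι → F) = B (a : ι → F) (b : ι → F) := by
  obtain ⟨φ, hφ⟩ := exists_equiv h h'
  refine ⟨φ, hφ, ?_⟩
  rintro ⟨_, g, rfl⟩ ⟨_, k, rfl⟩
  rw [hφ, hφ]
  have key : ∀ (y : G) (w : ι → F) (i j : ℕ), B (((ρ y) ^ i).mulVec w) (((ρ y) ^ j).mulVec w) =
      B ((ρ (y ^ ((i : ℤ) - j))).mulVec w) w := by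
    intro y w i j
    rw [← hρ (y ^ j) ((ρ (y ^ ((i : ℤ) - j))).mulVec w) w, Matrix.mulVec_mulVec, ← map_mul, ← map_pow, ← map_pow]
    congr 3
    rw [← zpow_natCast, ← zpow_natCast, ← zpow_add]
    congr 1
    ring
  symm
  exact gram hal hsl har hsr (fun i j => by rw [key, key, hg]) g k

end Cfsg.Agent.H513.RG
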