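import Cfsg.Agent.H513.RG.WittGen
import Cfsg.Agent.H876.SpGen
import Cfsg.Agent.S0749

/-!
# TEAM RG (S5714) B4: Witt's theorem for cyclic subspaces, symplectic groups (helper513)
-/

set_option autoImplicit false

namespace Cfsg.Agent.H513.RG

open Cfsg Polynomial Cfsg.Agent.H178.RG
open Cfsg.Agent.ClassicalGeometry.SympBasic

variable {F : Type} [Field F]

theorem rho_apply (m : ℕ) (x : Matrix.symplecticGroup (Fin m) F) :
    ((Units.coeHom (Matrix (Fin m ⊕ Fin m) (Fin m ⊕ Fin m) F)).comp (Cfsg.Agent.H876.spToGL m F)) x =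
      (x : Matrix (Fin m ⊕ Fin m) (Fin m ⊕ Fin m) F) := rfl

theorem witt_sp (m : ℕ) (_hm : 1 ≤ m) :
    WittP ((Units.coeHom (Matrix (Fin m ⊕ Fin m) (Fin m ⊕ Fin m) F)).comp (Cfsg.Agent.H876.spToGL m F))
      (sympForm m F) (fun _ => 0) := by
  intro f x x' v v' h h' _ hg
  set ρ := (Units.coeHom (Matrix (Fin m ⊕ Fin m) (Fin m ⊕ Fin m) F)).comp (Cfsg.Agent.H876.spToGL m F) with hρdef
  obtain ⟨φ, hφ, hiso⟩ := main ρ (B := sympForm m F) (σ := id) (fun u v w => sympForm_add_left u v w)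
    (fun a u w => sympForm_smul_left a u w) (fun u v w => sympForm_add_right w u v)
    (fun a u w => sympForm_smul_right a w u) (fun g v w => sympForm_mulVec g.2 v w) h h' hg
  obtain ⟨g, hg1, hg2⟩ := Cfsg.Agent.S0749.result (sympBilin m F) sympBilin_nondegenerate sympBilin_isAlt _ _ φ
    (fun a b => hiso a b)
  have hmem : LinearMap.toMatrix' (g : (Fin m ⊕ Fin m → F) →ₗ[F] (Fin m ⊕ Fin m → F)) ∈
      Matrix.symplecticGroup (Fin m) F := by
    rw [mem_symplecticGroup_iff]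
    intro u w
    rw [LinearMap.toMatrix'_mulVec, LinearMap.toMatrix'_mulVec]
    exact hg1 u w
  refine ⟨⟨_, hmem⟩, fun i => ?_⟩
  rw [hρdef, rho_apply, ← hρdef]
  simp only [LinearMap.toMatrix'_mulVec]
  have h1 := hg2 ⟨ev (ρ x) v (X ^ i), LinearMap.mem_range_self _ _⟩
  rw [hφ] at h1
  simp only [ev_X_pow, ← map_pow] at h1
  exact h1

end Cfsg.Agent.H513.RG
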